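import Cfsg.Agent.Suzuki.HeSp44.Main
import Cfsg.Agent.Suzuki.HeCent.Data

/-!
An upper bound for the centraliser of an involution of the presented Held group
-/

set_option autoImplicit false
set_option maxRecDepth 100000

namespace Cfsg.Agent.Suzuki.HeCent

open Cfsg.Agent.Screen.CosetEnum Cfsg.Agent.FGS2.He Cfsg.Agent.Suzuki.HeSp44

local notation "Q" => Cfsg.Spor.He

theorem cT0_ok : transOK [] 1 85 cTrans0 = true := by decide +kernel
theorem cT1_ok : transOK [1] 3 20 cTrans1 = true := by decide +kernel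
theorem cT2_ok : transOK [1, 3] 15 48 cTrans2 = true := by decide +kernel
theorem cT3_ok : transOK [1, 3, 15] 9 24 cTrans3 = true := by decide +kernel

/-- A packed permutation. -/
def pk (T : List ℕ) (a : ℕ) (i : Fin 85) : Fin 85 :=
  ⟨Nat.land (Nat.shiftRight (T.getD a 0) (7 * i)) 127 % 85, Nat.mod_lt _ (by norm_num)⟩

theorem pk0_ok : ∀ a : Fin 85, ∀ i, pk cPerm0 a i = run (cTrans0.getD a []) i := by decide +kernel
theorem pk1_ok : ∀ a : Fin 20, ∀ i, pk cPerm1 a i = run (cTrans1.getD a []) i := by decide +kernel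
theorem pk2_ok : ∀ a : Fin 48, ∀ i, pk cPerm2 a i = run (cTrans2.getD a []) i := by decide +kernel
theorem pk3_ok : ∀ a : Fin 24, ∀ i, pk cPerm3 a i = run (cTrans3.getD a []) i := by decide +kernel

theorem trans_elems {pre : List (Fin 85)} {start : Fin 85} {size : ℕ} {T : List (List ℕ)}
    (h : transOK pre start size T = true) :
    ∃ t : Fin size → stab0, (∀ i : Fin size, ∀ x, blockHom (t i) x = run (T.getD i []) x) ∧
      (∀ i, ∀ c ∈ pre, blockHom (t i) c = c) ∧ Function.Injective fun i => blockHom (t i) start := by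
  simp only [transOK, Bool.and_eq_true, List.all_eq_true, decide_eq_true_eq] at h
  obtain ⟨⟨hfix, hnd⟩, hlen⟩ := h
  subst hlen
  choose t ht using fun i : Fin T.length => run_mem T[i]
  refine ⟨t, fun i x => by rw [ht, List.getD_eq_getElem _ _ i.2]; rfl,
    fun i c hc => by rw [ht]; exact hfix _ (List.getElem_mem _) c hc, fun i j hij => ?_⟩
  simp only [ht] at hij
  have hi : (i : ℕ) < (T.map fun w => run w start).length := by simp
  have hj : (j : ℕ) < (T.map fun w => run w start).length := by simp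
  exact Fin.ext ((hnd.getElem_inj_iff (hi := hi) (hj := hj)).1 (by simpa using hij))

/-- The base of the block action suited to the involution. -/
theorem gfun_base : gfun 3 1 = 3 ∧ gfun 3 15 = 9 := by decide +kernel

/-- The condition on the first two transversal indices. -/
def ok1 (a : Fin 85) (b : Fin 20) : Bool :=
  decide (pk cPerm0 a (pk cPerm1 b 3) = gfun 3 (pk cPerm0 a 1))

/-- The condition on all four transversal indices. -/
def ok2 (a : Fin 85) (b : Fin 20) (c : Fin 48) (d : Fin 24) : Bool :=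
  decide (pk cPerm0 a (pk cPerm1 b (pk cPerm2 c (pk cPerm3 d 9))) =
    gfun 3 (pk cPerm0 a (pk cPerm1 b (pk cPerm2 c 15))))

/-- The candidates for the elements commuting with the involution. -/
def cands : List (Fin 85 × Fin 20 × Fin 48 × Fin 24) :=
  (List.finRange 85).flatMap fun a => ((List.finRange 20).filter (ok1 a)).flatMap fun b =>
    (List.finRange 48).flatMap fun c => ((List.finRange 24).filter (ok2 a b c)).map fun d => (a, b, c, d)

theorem cands_length : cands.length = 512 := by decide +kernel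

theorem subW_three : subW 3 = [4] := by decide +kernel

theorem fix_ok : ((List.range 2058).all fun c => !(Nat.beq (act [4] c) c) || fixList.contains c) = true := by
  decide +kernel

theorem fix_length : fixList.length = 42 := by decide +kernel

theorem rep_inv_zero : rep (kE [4]) ⟨0, Nat.zero_lt_succ _⟩ = ⟨0, Nat.zero_lt_succ _⟩ :=
  Fin.ext (by rw [act_spec (by decide +kernel)]; decide +kernel)

variable (hcard : Nat.card Q = 4030387200)

include hcard

theorem card_cent_stab_le :
    Nat.card {g : stab0 // (g : Q) * kE [4] = kE [4] * g} ≤ 512 := by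
  obtain ⟨t0, r0, -, i0⟩ := trans_elems cT0_ok
  obtain ⟨t1, r1, f1, i1⟩ := trans_elems cT1_ok
  obtain ⟨t2, r2, f2, i2⟩ := trans_elems cT2_ok
  obtain ⟨t3, r3, f3, i3⟩ := trans_elems cT3_ok
  haveI : Finite stab0 := Nat.finite_of_card_ne_zero (by rw [card_stab0 hcard]; norm_num)
  let φ : Fin 85 × Fin 20 × Fin 48 × Fin 24 → stab0 := fun x =>
    t0 x.1 * (t1 x.2.1 * (t2 x.2.2.1 * t3 x.2.2.2))
  have a10 : ∀ i, blockHom (t1 i) 1 = 1 := fun i => f1 i 1 (by decide)
  have a20 : ∀ i, blockHom (t2 i) 1 = 1 := fun i => f2 i 1 (by decide)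
  have a21 : ∀ i, blockHom (t2 i) 3 = 3 := fun i => f2 i 3 (by decide)
  have a30 : ∀ i, blockHom (t3 i) 1 = 1 := fun i => f3 i 1 (by decide)
  have a31 : ∀ i, blockHom (t3 i) 3 = 3 := fun i => f3 i 3 (by decide)
  have a32 : ∀ i, blockHom (t3 i) 15 = 15 := fun i => f3 i 15 (by decide)
  have hφ : Function.Injective φ := by
    rintro ⟨a, b, c, d⟩ ⟨a', b', c', d'⟩ he
    have h := fun p => congrArg (fun g : stab0 => blockHom g p) he
    have e0 := h 1
    have e1 := h 3
    have e2 := h 15
    have e3 := h 9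
    simp only [φ, map_mul, Equiv.Perm.mul_apply, a10, a20, a21, a30, a31, a32] at e0 e1 e2 e3
    obtain rfl := i0 e0
    obtain rfl := i1 ((blockHom (t0 a)).injective e1)
    obtain rfl := i2 ((blockHom (t1 b)).injective ((blockHom (t0 a)).injective e2))
    obtain rfl := i3 ((blockHom (t2 c)).injective ((blockHom (t1 b)).injective ((blockHom (t0 a)).injective e3)))
    rfl
  have hs : Function.Surjective φ := by
    refine ((Nat.bijective_iff_injective_and_card φ).2 ⟨hφ, ?_⟩).2
    simp only [Nat.card_prod, Nat.card_fin, card_stab0 hcard]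
  have hz : blockHom ⟨subGen 3, subGen_mem 3⟩ = gperm 3 := blockHom_gen 3
  have hz4 : subGen 3 = kE [4] := by rw [subGen, subW_three]
  choose x hx using fun g : {g : stab0 // (g : Q) * kE [4] = kE [4] * g} => hs g.1
  have hmem : ∀ g, x g ∈ cands := by
    intro g
    obtain ⟨a, b, c, d, hxe⟩ : ∃ a b c d, x g = (a, b, c, d) := ⟨_, _, _, _, rfl⟩
    have hcomm : blockHom g.1 * gperm 3 = gperm 3 * blockHom g.1 := by
      rw [← hz, ← map_mul, ← map_mul]
      refine congrArg blockHom (Subtype.ext ?_)
      show (g.1 : Q) * subGen 3 = subGen 3 * g.1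
      rw [hz4]
      exact g.2
    have hg := hx g
    rw [hxe] at hg
    rw [← hg] at hcomm
    have e1 := congrArg (fun σ : Equiv.Perm (Fin 85) => σ 1) hcomm
    have e2 := congrArg (fun σ : Equiv.Perm (Fin 85) => σ 15) hcomm
    have g1 : gperm 3 1 = 3 := gfun_base.1
    have g2 : gperm 3 15 = 9 := gfun_base.2
    simp only [φ, map_mul, Equiv.Perm.mul_apply, g1, g2, a10, a20, a21, a30, a31, a32] at e1 e2
    simp only [r0, r1, r2, r3, ← pk0_ok, ← pk1_ok, ← pk2_ok, ← pk3_ok] at e1 e2
    rw [hxe]
    simp only [cands, List.mem_flatMap, List.mem_map, List.mem_filter, List.mem_finRange, true_and]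
    exact ⟨a, b, decide_eq_true e1, c, d, decide_eq_true e2, rfl⟩
  let f : {g : stab0 // (g : Q) * kE [4] = kE [4] * g} → {y // y ∈ cands.toFinset} :=
    fun g => ⟨x g, List.mem_toFinset.2 (hmem g)⟩
  have hf : Function.Injective f := fun g g' e => by
    have e' : x g = x g' := congrArg Subtype.val e
    exact Subtype.ext (by rw [← hx g, ← hx g', e'])
  refine (Nat.card_le_card_of_injective f hf).trans ?_
  rw [Nat.card_eq_fintype_card, Fintype.card_coe]
  exact cands.toFinset_card_le.trans cands_length.le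

theorem card_cent_le : Nat.card (Subgroup.centralizer ({kE [4]} : Set Q)) ≤ 21504 := by
  haveI : Finite Q := Nat.finite_of_card_ne_zero (by rw [hcard]; norm_num)
  let C := Subgroup.centralizer ({kE [4]} : Set Q)
  have hfix : ∀ g : C, ((rep (g : Q) ⟨0, Nat.zero_lt_succ _⟩ : Pt) : ℕ) ∈ fixList := by
    intro g
    have hc : (g : Q) * kE [4] = kE [4] * g := Subgroup.mem_centralizer_singleton_iff.1 g.2
    have h := congrArg (fun q => rep q ⟨0, Nat.zero_lt_succ _⟩) hc
    simp only [map_mul, Equiv.Perm.mul_apply, rep_inv_zero] at h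
    have h' := congrArg Fin.val h
    rw [act_spec (by decide +kernel)] at h'
    have hall := List.all_eq_true.1 fix_ok _ (List.mem_range.2 (rep (g : Q) ⟨0, Nat.zero_lt_succ _⟩).isLt)
    rw [← h', show Nat.beq ((rep (g : Q) ⟨0, Nat.zero_lt_succ _⟩ : Pt) : ℕ) _ = true from Nat.beq_refl _] at hall
    simpa using hall
  let o : C → {c // c ∈ fixList.toFinset} := fun g => ⟨_, List.mem_toFinset.2 (hfix g)⟩
  let S := {g : stab0 // (g : Q) * kE [4] = kE [4] * g}
  choose s hs using fun c : Set.range o => c.2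
  let f : C → Set.range o × S := fun g =>
    (⟨o g, g, rfl⟩, ⟨⟨((s ⟨o g, g, rfl⟩)⁻¹ * g : C), by
      rw [mem_stab0_iff, Subgroup.coe_mul, Subgroup.coe_inv, map_mul, map_inv, Equiv.Perm.mul_apply,
        Equiv.Perm.inv_eq_iff_eq]
      have := congrArg Subtype.val (hs ⟨o g, g, rfl⟩)
      exact Fin.ext this.symm⟩,
      Subgroup.mem_centralizer_singleton_iff.1 ((s ⟨o g, g, rfl⟩)⁻¹ * g).2⟩)
  have hf : Function.Injective f := by
    intro g g' e
    obtain ⟨e1, e2⟩ := Prod.ext_iff.1 e
    have e3 : ((s ⟨o g, g, rfl⟩)⁻¹ * g : C) = (s ⟨o g', g', rfl⟩)⁻¹ * g' :=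
      Subtype.ext (congrArg (fun y : S => ((y.1 : stab0) : Q)) e2)
    simp only [f] at e1
    rw [e1] at e3
    exact mul_left_cancel e3
  refine (Nat.card_le_card_of_injective f hf).trans ?_
  rw [Nat.card_prod]
  refine (Nat.mul_le_mul ?_ (card_cent_stab_le hcard)).trans (by norm_num : 42 * 512 ≤ 21504)
  refine (Nat.card_le_card_of_injective _ Subtype.val_injective).trans ?_
  rw [Nat.card_eq_fintype_card, Fintype.card_coe]
  exact fixList.toFinset_card_le.trans fix_length.le

end Cfsg.Agent.Suzuki.HeCent
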