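import Cfsg.Agent.FGS2.He.Act
import Cfsg.Agent.Suzuki.HeCent.Data
import Cfsg.Agent.Linear.TransvCentTwo

/-!
A copy of the centraliser of a transvection of `SL₅(2)` in the presented Held group
-/

set_option autoImplicit false
set_option maxRecDepth 100000

namespace Cfsg.Agent.Suzuki.HeCent

open Cfsg.Agent.Screen.CosetEnum Cfsg.Agent.FGS2.He Cfsg.Agent.Linear.TransvCentTwo Matrix

local notation "Q" => Cfsg.Spor.He
local notation "S3" => Matrix.SpecialLinearGroup (Fin 3) (ZMod 2)
local notation "S5" => Matrix.SpecialLinearGroup (Fin (3 + 2)) (ZMod 2)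

/-- The central coordinate. -/
def cP (p : Fin 128) : ZMod 2 := if Nat.testBit p 0 then 1 else 0

/-- The row coordinate. -/
def aP (p : Fin 128) (i : Fin 3) : ZMod 2 := if Nat.testBit p (1 + i) then 1 else 0

/-- The column coordinate. -/
def bP (p : Fin 128) (i : Fin 3) : ZMod 2 := if Nat.testBit p (4 + i) then 1 else 0

/-- The matrix of an index. -/
def kMat (k : Fin 168) : Matrix (Fin 3) (Fin 3) (ZMod 2) :=
  Matrix.of fun i j => if Nat.testBit ((kTab.getD k []).getD i 0) j then 1 else 0

theorem kMat_det : ∀ k, (kMat k).det = 1 := by decide +kernel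

/-- The element of `SL₃(2)` of an index. -/
def kSL (k : Fin 168) : S3 := ⟨kMat k, kMat_det k⟩

theorem kSL_inj : ∀ k l : Fin 168, kMat k = kMat l → k = l := by decide +kernel

theorem kSL_bijective : Function.Bijective kSL := by
  refine (Fintype.bijective_iff_injective_and_card _).2 ⟨fun k l h => kSL_inj k l (congrArg Subtype.val h), ?_⟩
  rw [Fintype.card_fin]
  decide +kernel

theorem kSL_zero : kSL 0 = 1 := Subtype.ext (by decide +kernel : kMat 0 = 1)

/-- The matrix of an element of the extraspecial subgroup. -/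
def eMat (p : Fin 128) : S5 := el (cP p) (aP p) (bP p) 1

/-- The matrix of an element of the complement. -/
def lMat (k : Fin 168) : S5 := levi (ZMod 2) 3 (kSL k)

/-- The element of an index in the Held group. -/
noncomputable def eHe (p : Fin 128) : Q := kE (eWords.getD p [])

/-- The element of an index in the Held group. -/
noncomputable def lHe (k : Fin 168) : Q := kE (lWords.getD k [])

/-- The index of a generator. -/
def eGen (j : Fin 7) : Fin 128 := ⟨2 ^ (j : ℕ) % 128, Nat.mod_lt _ (by norm_num)⟩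

/-- The index of a generator. -/
def lGen (j : Fin 2) : Fin 168 := ⟨lGens.getD j 0 % 168, Nat.mod_lt _ (by norm_num)⟩

/-- The index of a product. -/
def eM (j : Fin 7) (p : Fin 128) : Fin 128 := ⟨(eMul.getD j []).getD p 0 % 128, Nat.mod_lt _ (by norm_num)⟩

/-- The index of a product. -/
def lM (j : Fin 2) (k : Fin 168) : Fin 168 := ⟨(lMul.getD j []).getD k 0 % 168, Nat.mod_lt _ (by norm_num)⟩

/-- The index of a conjugate. -/
def eC (j : Fin 2) (p : Fin 128) : Fin 128 := ⟨(eConj.getD j []).getD p 0 % 128, Nat.mod_lt _ (by norm_num)⟩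

theorem eMul_law : ∀ j p, cP (eGen j) + cP p + aP (eGen j) ⬝ᵥ bP p = cP (eM j p) ∧
    aP p + aP (eGen j) = aP (eM j p) ∧ bP (eGen j) + bP p = bP (eM j p) := by decide +kernel

theorem lMul_law : ∀ j k, kMat (lGen j) * kMat k = kMat (lM j k) := by decide +kernel

theorem eConj_law : ∀ j p, cP (eC j p) = cP p ∧ aP p = aP (eC j p) ᵥ* kMat (lGen j) ∧
    kMat (lGen j) *ᵥ bP p = bP (eC j p) := by decide +kernel

theorem eMat_mul (j : Fin 7) (p : Fin 128) : eMat (eGen j) * eMat p = eMat (eM j p) := by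
  obtain ⟨h1, h2, h3⟩ := eMul_law j p
  rw [eMat, eMat, el_mul, one_mul, v1, vecMul_one, one_mulVec, h1, h2, h3, ← eMat]

theorem lMat_mul (j : Fin 2) (k : Fin 168) : lMat (lGen j) * lMat k = lMat (lM j k) := by
  rw [lMat, lMat, ← map_mul]
  exact congrArg _ (Subtype.ext (lMul_law j k))

theorem levi_apply (K : S3) : levi (ZMod 2) 3 K = el 0 0 0 K := rfl

theorem conj_mat (j : Fin 2) (p : Fin 128) : lMat (lGen j) * eMat p = eMat (eC j p) * lMat (lGen j) := by
  obtain ⟨h1, h2, h3⟩ := eConj_law j p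
  rw [lMat, levi_apply, eMat, eMat, el_mul, el_mul]
  congr 1
  · simp [h1]
  · rw [v1, vecMul_one, add_zero, zero_add]; exact h2
  · rw [v1, one_mulVec, zero_add, add_zero]; exact h3
  · rw [mul_one, one_mul]

theorem eMat_zero : eMat 0 = 1 := by
  rw [eMat, show cP 0 = 0 by decide +kernel, show aP 0 = 0 by decide +kernel, show bP 0 = 0 by decide +kernel]
  exact el_one

theorem lMat_zero : lMat 0 = 1 := by rw [lMat, kSL_zero, map_one]

theorem eMul_he : ((List.finRange 7).all fun j => (List.finRange 128).all fun p =>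
    eqB (eWords.getD (eGen j) [] ++ eWords.getD p []) (eWords.getD (eM j p) [])) = true := by decide +kernel

theorem lMul_he : ((List.finRange 2).all fun j => (List.finRange 168).all fun k =>
    eqB (lWords.getD (lGen j) [] ++ lWords.getD k []) (lWords.getD (lM j k) [])) = true := by decide +kernel

theorem conj_he : ((List.finRange 2).all fun j => (List.finRange 128).all fun p =>
    eqB (lWords.getD (lGen j) [] ++ eWords.getD p []) (eWords.getD (eC j p) [] ++ lWords.getD (lGen j) [])) = true := by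
  decide +kernel

theorem eWords_zero : eWords.getD 0 [] = [] ∧ lWords.getD 0 [] = [] := by decide +kernel

theorem eWords_ne : ((List.finRange 128).all fun p => decide (p = 0) || neB (eWords.getD p []) []) = true := by
  decide +kernel

/-- The paired elements. -/
noncomputable def pairE (p : Fin 128) : Q × S5 := (eHe p, eMat p)

/-- The paired elements. -/
noncomputable def pairL (k : Fin 168) : Q × S5 := (lHe k, lMat k)

/-- The graph of the map. -/
noncomputable def graph : Subgroup (Q × S5) :=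
  Subgroup.closure ((Set.range fun j => pairE (eGen j)) ∪ Set.range fun j => pairL (lGen j))

variable (hcard : Nat.card Q = 4030387200)

theorem pairE_zero : pairE 0 = 1 :=
  Prod.ext ((congrArg kE eWords_zero.1).trans kE_nil) eMat_zero

theorem pairL_zero : pairL 0 = 1 :=
  Prod.ext ((congrArg kE eWords_zero.2).trans kE_nil) lMat_zero

include hcard

theorem pairE_mul (j : Fin 7) (p : Fin 128) : pairE (eGen j) * pairE p = pairE (eM j p) := by
  refine Prod.ext ?_ (eMat_mul j p)
  have h := List.all_eq_true.1 (List.all_eq_true.1 eMul_he j (List.mem_finRange j)) p (List.mem_finRange p)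
  exact (kE_append _ _).symm.trans (kE_eq hcard h)

theorem pairL_mul (j : Fin 2) (k : Fin 168) : pairL (lGen j) * pairL k = pairL (lM j k) := by
  refine Prod.ext ?_ (lMat_mul j k)
  have h := List.all_eq_true.1 (List.all_eq_true.1 lMul_he j (List.mem_finRange j)) k (List.mem_finRange k)
  exact (kE_append _ _).symm.trans (kE_eq hcard h)

theorem pair_conj (j : Fin 2) (p : Fin 128) : pairL (lGen j) * pairE p = pairE (eC j p) * pairL (lGen j) := by
  refine Prod.ext ?_ (conj_mat j p)
  have h := List.all_eq_true.1 (List.all_eq_true.1 conj_he j (List.mem_finRange j)) p (List.mem_finRange p)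
  exact (kE_append _ _).symm.trans ((kE_eq hcard h).trans (kE_append _ _))

theorem graph_form {g : Q × S5} (hg : g ∈ graph) : ∃ p k, g = pairE p * pairL k := by
  haveI : Finite Q := Nat.finite_of_card_ne_zero (by rw [hcard]; norm_num)
  haveI : Finite (Q × S5) := inferInstance
  have hg' : g ∈ Submonoid.closure ((Set.range fun j => pairE (eGen j)) ∪ Set.range fun j => pairL (lGen j)) := by
    rw [← Subgroup.closure_toSubmonoid_of_finite]
    exact hg
  induction hg' using Submonoid.closure_induction_left with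
  | one => exact ⟨0, 0, by rw [pairE_zero, pairL_zero, one_mul]⟩
  | mul_left x hx y hy ih =>
    obtain ⟨p, k, rfl⟩ := ih (by
      rw [← Subgroup.mem_toSubmonoid, graph, Subgroup.closure_toSubmonoid_of_finite]; exact hy)
    rcases hx with ⟨j, rfl⟩ | ⟨j, rfl⟩
    · exact ⟨eM j p, k, by rw [← mul_assoc, pairE_mul hcard]⟩
    · exact ⟨eC j p, lM j k, by rw [← mul_assoc, pair_conj hcard, mul_assoc, pairL_mul hcard]⟩

omit hcard

/-- Follow the steps, collecting the indices reached. -/
def reachGo {n m : ℕ} (f : Fin n → Fin m → Fin m) : List (ℕ × ℕ) → List (Fin m) → List (Fin m)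
  | [], acc => acc
  | (j, x) :: l, acc =>
    if h : j < n ∧ x < m then
      if acc.contains ⟨x, h.2⟩ then reachGo f l (f ⟨j, h.1⟩ ⟨x, h.2⟩ :: acc) else acc
    else acc

theorem reachGo_spec {n m : ℕ} {f : Fin n → Fin m → Fin m} {P : Fin m → Prop} (hf : ∀ j x, P x → P (f j x)) :
    ∀ (l : List (ℕ × ℕ)) (acc : List (Fin m)), (∀ x ∈ acc, P x) → ∀ x ∈ reachGo f l acc, P x
  | [], _, h => h
  | (j, x) :: l, acc, h => by
    unfold reachGo
    split_ifs with h1 h2
    · exact reachGo_spec hf l _ fun y hy => (List.mem_cons.1 hy).elim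
        (fun e => e ▸ hf _ _ (h _ (List.contains_iff_mem.1 h2))) (h y)
    · exact h
    · exact h

theorem eReach_ok : ∀ p, p ∈ reachGo eM eReach [0] := by decide +kernel

theorem lReach_ok : ∀ k, k ∈ reachGo lM lReach [0] := by decide +kernel

include hcard

theorem pairE_mem (p : Fin 128) : pairE p ∈ graph := by
  refine reachGo_spec (f := eM) (P := fun x => pairE x ∈ graph) (fun j x hx => ?_) eReach [0] ?_ p (eReach_ok p)
  · rw [← pairE_mul hcard]
    exact mul_mem (Subgroup.subset_closure (Or.inl ⟨j, rfl⟩)) hx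
  · simp only [List.mem_singleton, forall_eq, pairE_zero]
    exact one_mem _

theorem pairL_mem (k : Fin 168) : pairL k ∈ graph := by
  refine reachGo_spec (f := lM) (P := fun x => pairL x ∈ graph) (fun j x hx => ?_) lReach [0] ?_ k (lReach_ok k)
  · rw [← pairL_mul hcard]
    exact mul_mem (Subgroup.subset_closure (Or.inr ⟨j, rfl⟩)) hx
  · simp only [List.mem_singleton, forall_eq, pairL_zero]
    exact one_mem _

omit hcard

local notation "Cz" => Subgroup.centralizer ({z₀ (ZMod 2) 3} : Set S5)

theorem eMat_mem_cent (p : Fin 128) : eMat p ∈ Cz := mem_cent_el _ _ _ _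

theorem lMat_mem_cent (k : Fin 168) : lMat k ∈ Cz := mem_cent_el _ _ _ _

theorem eMat_surj : ∀ c : ZMod 2, ∀ a b : Fin 3 → ZMod 2, ∃ p, cP p = c ∧ aP p = a ∧ bP p = b := by
  decide +kernel

theorem prod_surj (c : ZMod 2) (a b : Fin 3 → ZMod 2) (K : S3) :
    ∃ p k, el c a b K = eMat p * lMat k := by
  obtain ⟨k, hk⟩ := kSL_bijective.2 K
  obtain ⟨p, h1, h2, h3⟩ := eMat_surj c (a ᵥ* (K⁻¹ : S3).1) b
  exact ⟨p, k, by rw [lMat, hk, eMat, h1, h2, h3, el_eq]⟩

theorem eMat_eq_one : ∀ p : Fin 128, cP p = 0 → aP p = 0 → bP p = 0 → p = 0 := by decide +kernel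

theorem prod_eq_one {p : Fin 128} {k : Fin 168} (h : eMat p * lMat k = 1) : p = 0 ∧ k = 0 := by
  have h' : el (cP p) (aP p) (bP p) 1 * el 0 0 0 (kSL k) = el 0 0 0 1 := by
    rw [el_one]; exact h
  rw [el_mul] at h'
  obtain ⟨h1, h2, h3, h4⟩ := el_inj h'
  rw [one_mul] at h4
  have hk : k = 0 := kSL_bijective.1 (h4.trans kSL_zero.symm)
  subst hk
  rw [kSL_zero, v1, vecMul_one] at h2
  simp only [dotProduct_zero, add_zero] at h1
  exact ⟨eMat_eq_one p h1 (by simpa using h2) (by simpa using h3), rfl⟩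

include hcard

theorem graph_snd_mem {g : Q × S5} (hg : g ∈ graph) : g.2 ∈ Cz := by
  obtain ⟨p, k, rfl⟩ := graph_form hcard hg
  exact mul_mem (eMat_mem_cent p) (lMat_mem_cent k)

/-- The injection of the centraliser of a transvection. -/
theorem exists_embedding :
    ∃ φ : Cz →* Q, Function.Injective φ ∧
      φ ⟨z₀ (ZMod 2) 3, Subgroup.mem_centralizer_singleton_iff.2 rfl⟩ = kE [4] ∧
      ∀ p k, φ ⟨eMat p * lMat k, mul_mem (eMat_mem_cent p) (lMat_mem_cent k)⟩ = eHe p * lHe k := by
  let π : graph →* Cz := ((MonoidHom.snd Q S5).comp graph.subtype).codRestrict _ fun g => graph_snd_mem hcard g.2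
  have hπ : Function.Bijective π := by
    refine ⟨?_, ?_⟩
    · rw [injective_iff_map_eq_one]
      intro g hg
      obtain ⟨p, k, e⟩ := graph_form hcard g.2
      have h2 : eMat p * lMat k = 1 := by
        have := congrArg Subtype.val hg
        rw [show ((π g : Cz) : S5) = g.1.2 from rfl, e] at this
        exact this
      obtain ⟨rfl, rfl⟩ := prod_eq_one h2
      exact Subtype.ext (e.trans (by rw [pairE_zero, pairL_zero, one_mul]; rfl))
    · rintro ⟨m, hm⟩
      obtain ⟨c, a, b, K, rfl⟩ := exists_el (ZMod.card 2) m hm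
      obtain ⟨p, k, e⟩ := prod_surj c a b K
      exact ⟨⟨pairE p * pairL k, mul_mem (pairE_mem hcard p) (pairL_mem hcard k)⟩, Subtype.ext e.symm⟩
  let φ : Cz →* Q := ((MonoidHom.fst Q S5).comp graph.subtype).comp (MulEquiv.ofBijective π hπ).symm.toMonoidHom
  have hφ : ∀ g : graph, φ (π g) = g.1.1 := fun g => by
    show ((MulEquiv.ofBijective π hπ).symm (MulEquiv.ofBijective π hπ g)).1.1 = _
    rw [MulEquiv.symm_apply_apply]
  have hE : ∀ p, φ ⟨eMat p, eMat_mem_cent p⟩ = eHe p := fun p => hφ ⟨pairE p, pairE_mem hcard p⟩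
  have hQ : ∀ x : Cz, (x : S5) ∈ Q₀ (ZMod 2) 3 → φ x = 1 → x = 1 := by
    rintro ⟨x, hx⟩ ⟨c, a, b, rfl⟩ h
    obtain ⟨p, h1, h2, h3⟩ := eMat_surj c a b
    have e : el c a b 1 = eMat p := by rw [eMat, h1, h2, h3]
    have hp : p = 0 := by
      by_contra hp
      have hne := List.all_eq_true.1 eWords_ne p (List.mem_finRange p)
      simp only [hp, decide_false, Bool.false_or] at hne
      refine kE_ne hne ?_
      rw [kE_nil]
      have : φ ⟨eMat p, eMat_mem_cent p⟩ = 1 := (congrArg φ (Subtype.ext e.symm)).trans h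
      rwa [hE] at this
    subst hp
    exact Subtype.ext (e.trans eMat_zero)
  refine ⟨φ, ?_, ?_, fun p k => hφ ⟨pairE p * pairL k, mul_mem (pairE_mem hcard p) (pairL_mem hcard k)⟩⟩
  · obtain ⟨pr, -, hker, -⟩ := exists_proj (F := ZMod 2) (m := 3) (ZMod.card 2)
    rw [injective_iff_map_eq_one]
    intro n hn
    refine hQ n ?_ hn
    have hc : (n : S5) ∈ Subgroup.centralizer (Q₀ (ZMod 2) 3 : Set S5) := by
      intro q hq
      let q' : Cz := ⟨q, Q₀_le hq⟩
      have hq' : q' ∈ pr.ker := by rw [hker]; exact hq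
      have hmem : n * q' * n⁻¹ * q'⁻¹ ∈ pr.ker :=
        mul_mem (pr.normal_ker.conj_mem _ hq' n) (inv_mem hq')
      have h1 := hQ (n * q' * n⁻¹ * q'⁻¹) (by rw [hker] at hmem; exact hmem)
        (by simp [map_mul, map_inv, hn])
      rw [mul_inv_eq_one, mul_inv_eq_iff_eq_mul] at h1
      exact (congrArg Subtype.val h1).symm
    rw [centralizer_Q₀ (ZMod.card 2)] at hc
    exact (Subgroup.zpowers_le.2 z₀_mem) hc
  · have e : z₀ (ZMod 2) 3 = eMat 1 := by
      rw [eMat, z₀, show cP 1 = 1 by decide +kernel, show aP 1 = 0 by decide +kernel,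
        show bP 1 = 0 by decide +kernel]
    rw [show (⟨z₀ (ZMod 2) 3, _⟩ : Cz) = ⟨eMat 1, eMat_mem_cent 1⟩ from Subtype.ext e, hE]
    exact kE_eq hcard (by decide +kernel)

end Cfsg.Agent.Suzuki.HeCent
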