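import Cfsg.Agent.Suzuki.HeCent.Iso
import Cfsg.Agent.Suzuki.HeCent.Bound

/-!
The centraliser of an involution of the presented Held group
-/

set_option autoImplicit false
set_option maxRecDepth 100000

namespace Cfsg.Agent.Suzuki.HeCent

open Cfsg.Agent.Screen.CosetEnum Cfsg.Agent.FGS2.He Cfsg.Agent.Linear.TransvCentTwo

local notation "Q" => Cfsg.Spor.He

theorem card_transv_cent : 21504 ≤
    Nat.card (Subgroup.centralizer ({z₀ (ZMod 2) 3} : Set (Matrix.SpecialLinearGroup (Fin (3 + 2)) (ZMod 2)))) := by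
  let f : Fin 128 × Fin 168 →
      Subgroup.centralizer ({z₀ (ZMod 2) 3} : Set (Matrix.SpecialLinearGroup (Fin (3 + 2)) (ZMod 2))) :=
    fun x => ⟨el (cP x.1) (aP x.1) (bP x.1) (kSL x.2), mem_cent_el _ _ _ _⟩
  have hinj : ∀ p q : Fin 128, cP p = cP q → aP p = aP q → bP p = bP q → p = q := by decide +kernel
  have hf : Function.Injective f := fun x y h => by
    obtain ⟨h1, h2, h3, h4⟩ := el_inj (congrArg Subtype.val h)
    exact Prod.ext (hinj _ _ h1 h2 h3) (kSL_bijective.1 h4)
  have h := Nat.card_le_card_of_injective f hf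
  simpa [Nat.card_prod, Nat.card_fin] using h

theorem exists_centraliser_iso (hcard : Nat.card Q = 4030387200)
    (s : Matrix.SpecialLinearGroup (Fin 5) (ZMod 2))
    (hs : (s : Matrix (Fin 5) (Fin 5) (ZMod 2)) = Matrix.transvection 0 1 1) :
    ∃ z : Q, orderOf z = 2 ∧ Nonempty (↥(Subgroup.centralizer ({z} : Set Q)) ≃*
      ↥(Subgroup.centralizer ({s} : Set (Matrix.SpecialLinearGroup (Fin 5) (ZMod 2))))) := by
  obtain rfl : s = z₀ (ZMod 2) 3 := Subtype.ext (hs.trans z₀_coe.symm)
  haveI : Finite Q := Nat.finite_of_card_ne_zero (by rw [hcard]; norm_num)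
  obtain ⟨φ, hinj, hz, -⟩ := exists_embedding hcard
  refine ⟨kE [4], ?_, ?_⟩
  · haveI := Fact.mk Nat.prime_two
    refine orderOf_eq_prime ?_ fun e => kE_ne (u := [4]) (w := []) (by decide +kernel) (e.trans kE_nil.symm)
    rw [pow_two, ← kE_append]
    exact kE_one hcard (by decide +kernel)
  · have hC : ∀ m, φ m ∈ Subgroup.centralizer ({kE [4]} : Set Q) := fun m => by
      rw [Subgroup.mem_centralizer_singleton_iff, ← hz, ← map_mul, ← map_mul]
      exact congrArg φ (Subtype.ext (Subgroup.mem_centralizer_singleton_iff.1 m.2))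
    have hinj' : Function.Injective (φ.codRestrict _ hC) := fun a b e =>
      hinj (congrArg Subtype.val e :)
    exact ⟨(MulEquiv.ofBijective (φ.codRestrict _ hC) ((Nat.bijective_iff_injective_and_card _).2
      ⟨hinj', le_antisymm (Nat.card_le_card_of_injective _ hinj')
        ((card_cent_le hcard).trans card_transv_cent)⟩)).symm⟩

end Cfsg.Agent.Suzuki.HeCent
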